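import Groth.Agent.Lib.CycP1.Cycle
import Groth.Agent.Lib.Altitude.Scheme

/-!
Scheme-theoretic images of integral schemes; an induced dimension function on the projective line.
-/

set_option autoImplicit false
universe u

open CategoryTheory Limits AlgebraicGeometry

namespace GrothLib.CycP1

theorem isReduced_image {U Q : Scheme.{u}} (f : U ⟶ Q) [QuasiCompact f] [IsReduced U] : IsReduced f.image := by
  haveI : ∀ y : f.image, _root_.IsReduced (f.image.presheaf.stalk y) := fun y => by
    obtain ⟨V, hV, hyV, -⟩ := exists_isAffineOpen_mem_and_subset (x := f.imageι y) (U := ⊤) trivial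
    haveI : _root_.IsReduced Γ(f.image, f.imageι ⁻¹ᵁ V) :=
      isReduced_of_injective _ (f.toImage_app_injective ⟨V, hV⟩)
    letI := TopCat.Presheaf.algebra_section_stalk f.image.presheaf (⟨y, hyV⟩ : (f.imageι ⁻¹ᵁ V : f.image.Opens))
    haveI := (hV.preimage f.imageι).isLocalization_stalk ⟨y, hyV⟩
    exact isReduced_localizationPreserves ((hV.preimage f.imageι).primeIdealOf ⟨y, hyV⟩).asIdeal.primeCompl _
      inferInstance
  exact isReduced_of_isReduced_stalk _

theorem isGenericPoint_toImage {U Q : Scheme.{u}} (f : U ⟶ Q) [QuasiCompact f] [IrreducibleSpace U] :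
    IsGenericPoint (f.toImage (genericPoint U)) ⊤ := by
  have h := (genericPoint_spec U).image f.toImage.continuous
  rw [Set.image_univ, f.toImage.denseRange.closure_range] at h
  exact h

theorem isIntegral_image {U Q : Scheme.{u}} (f : U ⟶ Q) [QuasiCompact f] [IsIntegral U] : IsIntegral f.image := by
  haveI := isReduced_image f
  haveI : Nonempty f.image := ⟨f.toImage (genericPoint U)⟩
  haveI : PreirreducibleSpace f.image := ⟨by
    rw [← Set.top_eq_univ, ← (isGenericPoint_toImage f).def]
    exact isIrreducible_singleton.closure.2⟩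
  haveI : IrreducibleSpace f.image := { toNonempty := ‹_› }
  exact isIntegral_of_irreducibleSpace_of_isReduced _

theorem genericPoint_image {U Q : Scheme.{u}} (f : U ⟶ Q) [QuasiCompact f] [IsIntegral U] [IsIntegral f.image] :
    f.imageι (genericPoint f.image) = f (genericPoint U) := by
  rw [(genericPoint_spec f.image).eq (isGenericPoint_toImage f), ← Scheme.Hom.comp_apply,
    Scheme.Hom.toImage_imageι]

/-- The dimension function on the projective line exists. -/
theorem exists_deltaCompat {Q S : Scheme.{u}} (f : Q ⟶ S) [LocallyOfFiniteType f] [IsLocallyNoetherian S]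
    (δ : S → ℤ) : ∃ δQ : Q → ℤ, Cyc.DeltaCompat f δQ δ := by
  have h : ∀ q : Q, ∃ n : ℕ, GrothLib.CycFlat.resTrdeg f q = n := fun q => by
    obtain ⟨t, -, -, -, ht, -⟩ := GrothLib.Altitude.dim_locQuot_add_trdeg f (specializes_rfl (x := q))
    exact ⟨t, ht⟩
  choose n hn using h
  exact ⟨fun q => δ (f q) + n q, fun q => ⟨n q, hn q, rfl⟩⟩

end GrothLib.CycP1
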