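import Groth.Agent.Lib.CycP1.Cycle
import Groth.Agent.Lib.CycCut.Main
import Groth.Agent.Lib.CycPush.PushFam
import Groth.Agent.Lib.CycBasic.SheafLength
import Groth.Agent.Lib.CycBasic.SubLength
import Groth.Agent.Lib.QCoh.SupportPullback

/-!
The fibres of a coherent module over 0 and ∞ are rationally equivalent.
-/

set_option autoImplicit false
universe u

open CategoryTheory Limits AlgebraicGeometry IsLocalRing GrothLib.CycDiv GrothLib.CycPush GrothLib.CycCut
open scoped TensorProduct Pointwise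

namespace GrothLib.CycP1

variable {X : Scheme.{u}}

theorem length_tensor_quot {R S : Type u} [CommRing R] [CommRing S] (φ : R →+* S) (hφ : Function.Surjective φ)
    {a : R} (hker : RingHom.ker φ = Ideal.span {a}) (M : Type u) [AddCommGroup M] [Module R M] :
    letI := φ.toAlgebra
    Module.length S (S ⊗[R] M) = Module.length R (M ⧸ a • (⊤ : Submodule R M)) := by
  letI := φ.toAlgebra
  rw [← Module.length_eq_of_surjective (S := R) (M := S ⊗[R] M) hφ, ← Submodule.ideal_span_singleton_smul]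
  let e : (R ⧸ Ideal.span {a}) ≃ₗ[R] S := (Submodule.quotEquivOfEq _ _ hker.symm).trans
    (LinearMap.quotKerEquivOfSurjective (Algebra.linearMap R S) hφ)
  exact ((TensorProduct.congr e.symm (LinearEquiv.refl R M)).trans
    (TensorProduct.quotTensorEquivQuotSMul M (Ideal.span {a}))).length_eq

theorem ker_sect_stalkMap (i : Fin (1 + 1)) (x : X) :
    RingHom.ker ((P1.sect X i).stalkMap x).hom =
      Ideal.span {coordAt (inChart_of_mem_range (Set.mem_range_self (f := P1.sect X i) x))} := by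
  have hsq := isPullback_sect X i
  rw [point_eq] at hsq
  obtain ⟨γ, hγ⟩ := exists_chartHom (chart i) (pr X) (P1.sect X i x) (inChart_of_mem_range (Set.mem_range_self x))
  rw [← coordAt_eq _ γ hγ]
  exact ker_stalkMap (chart i) (ev i) (ev_surjective i) (ker_ev i) hsq x γ hγ

theorem length_pullback_sect (i : Fin (1 + 1)) (F : (CohB1.ProjSpaceOver 1 X).Modules) (x : X) :
    Module.length (X.presheaf.stalk x) (((Scheme.Modules.pullback (P1.sect X i)).obj F).presheaf.stalk x) =
      Module.length ((CohB1.ProjSpaceOver 1 X).presheaf.stalk (P1.sect X i x))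
        (F.presheaf.stalk (P1.sect X i x) ⧸
          coordAt (inChart_of_mem_range (Set.mem_range_self (f := P1.sect X i) x)) •
            (⊤ : Submodule ((CohB1.ProjSpaceOver 1 X).presheaf.stalk (P1.sect X i x))
              (F.presheaf.stalk (P1.sect X i x)))) := by
  let φ := ((P1.sect X i).stalkMap x).hom
  have e : ((OX.stalk x).obj ((Scheme.Modules.pullback (P1.sect X i)).obj F)) ≅
      (ModuleCat.extendScalars φ).obj ((OX.stalk (P1.sect X i x)).obj F) :=
    (GrothLib.QCoh.stalkPullbackIso (P1.sect X i) x).app F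
  refine Eq.trans ?_ (length_tensor_quot φ ((P1.sect X i).stalkMap_surjective x) (ker_sect_stalkMap i x)
    ((OX.stalk (P1.sect X i x)).obj F))
  exact e.toLinearEquiv.length_eq

theorem ordAt_pow {P : Scheme.{u}} [IsLocallyNoetherian P] {δ : P → ℤ} (hδ : Cyc.IsDimFun P δ) {x ξ : P}
    (h : ξ ⤳ x) (hd : δ x + 1 = δ ξ) {g : P.residueField ξ} (hg : g ≠ 0) (n : ℕ) :
    Cyc.ordAt x ξ h (g ^ n) = n * Cyc.ordAt x ξ h g := by
  obtain ⟨a, b, hb, hab⟩ := exists_frac h g
  have ha : a ∉ primeOf h := fun ha => by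
    rw [show Cyc.specMap _ _ h a = 0 from ha] at hab
    exact (mul_eq_zero.1 hab).elim hg hb
  have hp : ∀ c, c ∉ primeOf h → c ^ n ∉ primeOf h := fun c hc hm =>
    hc (Ideal.IsPrime.mem_of_pow_mem inferInstance n hm)
  have hN : IsNoetherianRing (Cyc.LocQuot x ξ h) :=
    isNoetherianRing_of_surjective _ _ (Ideal.Quotient.mk _) Ideal.Quotient.mk_surjective
  have hK : Ring.KrullDimLE 1 (Cyc.LocQuot x ξ h) := Ring.krullDimLE_iff.2 (by
    rw [GrothLib.CycBasic.ringKrullDim_locQuot hδ x ξ h, show (δ ξ - δ x).toNat = 1 from by omega])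
  have hnz : ∀ c, c ∉ primeOf h → Ideal.Quotient.mk (primeOf h) c ∈ nonZeroDivisors _ := fun c hc =>
    mem_nonZeroDivisors_of_ne_zero fun e => hc (Ideal.Quotient.eq_zero_iff_mem.1 e)
  rw [ordAt_eq_sub hδ h hd ha hb hab, ordAt_eq_sub hδ h hd (hp a ha) (hp b hb) (by
    rw [map_pow, map_pow, ← mul_pow, hab]), map_pow, map_pow, Ring.ord_pow (hnz a ha), Ring.ord_pow (hnz b hb),
    nsmul_eq_mul, nsmul_eq_mul, ENat.toNat_mul, ENat.toNat_mul]
  simp only [ENat.toNat_natCast]
  push_cast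
  ring

variable {δ : X → ℤ} {δP : ↥(CohB1.ProjSpaceOver 1 X) → ℤ}

/-- Points of the support of top dimension. -/
abbrev Pts (δP : ↥(CohB1.ProjSpaceOver 1 X) → ℤ) (k : ℤ) (F : (CohB1.ProjSpaceOver 1 X).Modules) : Type u :=
  {ζ : ↥(CohB1.ProjSpaceOver 1 X) // δP ζ = k + 1 ∧ Nontrivial (F.presheaf.stalk ζ)}

theorem locFin_pts [IsLocallyNoetherian (CohB1.ProjSpaceOver 1 X)]
    (hδP : Cyc.IsDimFun (CohB1.ProjSpaceOver 1 X) δP) (k : ℤ) (F : (CohB1.ProjSpaceOver 1 X).Modules)
    (hF : Coh.IsCoh F) (hsupp : ∀ p, Nontrivial (F.presheaf.stalk p) → δP p ≤ k + 1)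
    (p : ↥(CohB1.ProjSpaceOver 1 X)) : ∃ U : Set ↥(CohB1.ProjSpaceOver 1 X), IsOpen U ∧ p ∈ U ∧
      {i : Pts δP k F | (closure {i.1} ∩ U).Nonempty}.Finite := by
  have hT : IsClosed (CohB1.support F) := GrothLib.QCoh.isClosed_support_of_isCoh hF
  obtain ⟨U, hU, hfin⟩ := GrothLib.CycBasic.locallyFinite_components hT p
  obtain ⟨V, hVU, hV, hpV⟩ := mem_nhds_iff.1 hU
  refine ⟨V, hV, hpV, ?_⟩
  have hmem : ∀ i : Pts δP k F, i.1 ∈ CohB1.support F := fun i => GrothLib.CycBasic.nontrivial_iff_mem_support.1 i.2.2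
  let c : Pts δP k F → irreducibleComponents (CohB1.support F) := fun i =>
    ⟨irreducibleComponent ⟨i.1, hmem i⟩, irreducibleComponent_mem_irreducibleComponents _⟩
  have hgen : ∀ i : Pts δP k F, ∀ y : CohB1.support F, y ∈ (c i : Set (CohB1.support F)) → i.1 ⤳ y.1 := by
    intro i y hy
    haveI : QuasiSober (CohB1.support F) := hT.isClosedEmbedding_subtypeVal.quasiSober
    have hirr : IsIrreducible (c i : Set (CohB1.support F)) := (c i).2.1
    have hcl : IsClosed (c i : Set (CohB1.support F)) := isClosed_irreducibleComponent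
    have hg := hirr.isGenericPoint_genericPoint hcl
    have h1 : hirr.genericPoint ⤳ (⟨i.1, hmem i⟩ : CohB1.support F) := hg.specializes mem_irreducibleComponent
    have h2 : hirr.genericPoint.1 = i.1 := by
      by_contra hne
      have : δP i.1 < δP hirr.genericPoint.1 := (hδP _ _ (h1.map continuous_subtype_val) hne).1
      have := hsupp _ (GrothLib.CycBasic.nontrivial_iff_mem_support.2 hirr.genericPoint.2)
      have := i.2.1
      omega
    have h3 := (hg.specializes hy).map continuous_subtype_val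
    exact h2 ▸ h3
  refine Set.Finite.of_finite_image (f := c) (hfin.subset ?_) ?_
  · rintro _ ⟨i, ⟨y, hy, hyV⟩, rfl⟩
    have hiy : i.1 ⤳ y := specializes_iff_mem_closure.2 hy
    exact ⟨i.1, ⟨⟨i.1, hmem i⟩, mem_irreducibleComponent, rfl⟩, hVU (hiy.mem_open hV hyV)⟩
  · intro i _ j _ hij
    have h1 := hgen i ⟨j.1, hmem j⟩ (hij ▸ mem_irreducibleComponent)
    refine Subtype.ext ?_
    by_contra hne
    have : δP j.1 < δP i.1 := (hδP _ _ h1 hne).1
    have := i.2.1
    have := j.2.1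
    omega

theorem not_mem_sect_of_pts [IsLocallyNoetherian (CohB1.ProjSpaceOver 1 X)]
    (hP : Cyc.DeltaCompat (CohB1.ProjSpaceOver.toBase 1 X) δP δ) {k : ℤ}
    (F : (CohB1.ProjSpaceOver 1 X).Modules) (hF : Coh.IsCoh F) (i : Fin (1 + 1))
    (h : ∀ x : X, Nontrivial (((Scheme.Modules.pullback (P1.sect X i)).obj F).presheaf.stalk x) → δ x ≤ k)
    (ζ : Pts δP k F) : ζ.1 ∉ Set.range (P1.sect X i) := by
  rintro ⟨x, hx⟩
  have h1 : x ∈ CohB1.support ((Scheme.Modules.pullback (P1.sect X i)).obj F) := by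
    rw [GrothLib.QCoh.support_pullback (P1.sect X i) F hF]
    show P1.sect X i x ∈ CohB1.support F
    rw [hx]
    exact GrothLib.CycBasic.nontrivial_iff_mem_support.1 ζ.2.2
  have h2 := h x (GrothLib.CycBasic.nontrivial_iff_mem_support.2 h1)
  have h3 := δP_sect hP i x
  rw [hx, ζ.2.1] at h3
  omega

open Classical in
theorem ratEquiv_coherent (hX : Cyc.IsSetup X δ) (hP : Cyc.DeltaCompat (CohB1.ProjSpaceOver.toBase 1 X) δP δ)
    (k : ℤ) (F : (CohB1.ProjSpaceOver 1 X).Modules) (hF : Coh.IsCoh F)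
    (hsupp : ∀ p, Nontrivial (F.presheaf.stalk p) → δP p ≤ k + 1)
    (hi : ∀ (i : Fin (1 + 1)) (x : X),
      Nontrivial (((Scheme.Modules.pullback (P1.sect X i)).obj F).presheaf.stalk x) → δ x ≤ k)
    (hemb : ∀ (i : Fin (1 + 1)) (x : X), δ x = k → ¬ IsAssociatedPrime
      (maximalIdeal ((CohB1.ProjSpaceOver 1 X).presheaf.stalk (P1.sect X i x))) (F.presheaf.stalk (P1.sect X i x)))
    (α β : AlgebraicCycle X ℤ) (hα : ⇑α = Cyc.sheafFun δ k ((Scheme.Modules.pullback (P1.sect X 0)).obj F))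
    (hβ : ⇑β = Cyc.sheafFun δ k ((Scheme.Modules.pullback (P1.sect X 1)).obj F)) : Cyc.RatEquiv δ k α β := by
  haveI := hX.1
  haveI := isLocallyNoetherian_P (X := X)
  haveI := hF.1
  have hδP := isDimFun_δP hX hP
  set tb := CohB1.ProjSpaceOver.toBase 1 X
  have h0 : ∀ ζ : Pts δP k F, ζ.1 ∉ Set.range (P1.sect X 0) := not_mem_sect_of_pts hP F hF 0 (hi 0)
  have h1 : ∀ ζ : Pts δP k F, ζ.1 ∉ Set.range (P1.sect X 1) := not_mem_sect_of_pts hP F hF 1 (hi 1)
  let n : Pts δP k F → ℕ := fun ζ =>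
    (Module.length ((CohB1.ProjSpaceOver 1 X).presheaf.stalk ζ.1) (F.presheaf.stalk ζ.1)).toNat
  let f : (ζ : Pts δP k F) → (CohB1.ProjSpaceOver 1 X).residueField ζ.1 := fun ζ => t (h1 ζ) ^ n ζ
  have hf : ∀ ζ, f ζ ≠ 0 := fun ζ => pow_ne_zero _ (t_ne_zero (h0 ζ) (h1 ζ))
  have hloc := locFin_pts hδP k F hF hsupp
  let c := famCycle hδP (ξ := fun ζ : Pts δP k F => ζ.1) f hf hloc
  -- the value of the divisor at a point
  have hdiv : ∀ (ζ : Pts δP k F) (p : ↥(CohB1.ProjSpaceOver 1 X)), Cyc.divFun δP ζ.1 (f ζ) p =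
      if h : ζ.1 ⤳ p ∧ δP p + 1 = δP ζ.1 then (n ζ : ℤ) * Cyc.ordAt p ζ.1 h.1 (t (h1 ζ)) else 0 := fun ζ p => by
    rw [Cyc.divFun]
    exact dite_congr rfl (fun h => ordAt_pow hδP h.1 h.2 (t_ne_zero (h0 ζ) (h1 ζ)) _) fun _ => rfl
  have hval : ∀ x : X, AlgebraicCycle.map tb δP δ c x = α x - β x := by
    intro x
    rw [AlgebraicCycle.map, Function.locallyFinsupp.map_apply, hα, hβ]
    have hne : P1.sect X 0 x ≠ P1.sect X 1 x := fun e => not_mem_both ⟨x, e⟩ (Set.mem_range_self x)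
    rw [finsum_mem_eq_sum_of_inter_support_eq _ (t := {P1.sect X 0 x, P1.sect X 1 x}) ?_, Finset.sum_pair hne,
      mapCoeff_sect hP 0 x, mapCoeff_sect hP 1 x]
    swap
    · ext p
      simp only [Set.mem_inter_iff, Function.mem_support, Set.mem_preimage, Finset.coe_insert,
        Finset.coe_singleton, Set.mem_insert_iff, Set.mem_singleton_iff]
      refine ⟨fun hp => ⟨?_, hp.2⟩, fun hp => ⟨?_, hp.2⟩⟩
      · by_contra hne'
        push Not at hne'
        refine hp.2 ?_
        have hnot : ∀ i : Fin (1 + 1), p ≠ P1.sect X i x → p ∉ Set.range (P1.sect X i) := by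
          rintro i hi' ⟨y, rfl⟩
          exact hi' (by rw [show y = x from (tb_sect i y).symm.trans hp.1])
        have : c p = 0 := by
          show famCycle hδP f hf hloc p = 0
          rw [famCycle_apply]
          refine finsum_eq_zero_of_forall_eq_zero fun ζ => ?_
          rw [hdiv ζ p]
          split_ifs with h
          · rw [ordAt_t hδP (h0 ζ) (h1 ζ) h.1 h.2, dif_neg (hnot 0 hne'.1), dif_neg (hnot 1 hne'.2)]
            simp
          · rfl
        rw [this]
        simp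
      · rcases hp.1 with h | h <;> rw [h] <;> exact tb_sect _ x
    simp only [Cyc.sheafFun]
    by_cases hk : δ x = k
    swap
    · rw [if_neg hk, if_neg hk]
      have : ∀ i : Fin (1 + 1), c (P1.sect X i x) = 0 := fun i => by
        show famCycle hδP f hf hloc _ = 0
        rw [famCycle_apply]
        refine finsum_eq_zero_of_forall_eq_zero fun ζ => ?_
        rw [hdiv, dif_neg]
        rintro ⟨-, h⟩
        rw [δP_sect hP, ζ.2.1] at h
        omega
      rw [this 0, this 1]
      simp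
    rw [if_pos hk, if_pos hk]
    have hmain : ∀ i : Fin (1 + 1), c (P1.sect X i x) = (![(1 : ℤ), -1] i) *
        ((Module.length (X.presheaf.stalk x)
          (((Scheme.Modules.pullback (P1.sect X i)).obj F).presheaf.stalk x)).toNat : ℤ) := by
      intro i
      set p := P1.sect X i x with hp
      have hfinI : {ζ : Pts δP k F | ζ.1 ⤳ p}.Finite := by
        obtain ⟨U, hU, hpU, hfin⟩ := hloc p
        exact hfin.subset fun ζ hζ => ⟨p, specializes_iff_mem_closure.1 hζ, hpU⟩
      have hS : ∀ ζ, ζ ∈ hfinI.toFinset.image (fun ζ : Pts δP k F => ζ.1) ↔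
          (ζ ⤳ p ∧ δP ζ = k + 1 ∧ Nontrivial (F.presheaf.stalk ζ)) := fun ζ => by
        simp only [Finset.mem_image, Set.Finite.mem_toFinset, Set.mem_setOf_eq]
        exact ⟨fun ⟨a, ha, e⟩ => e ▸ ⟨ha, a.2⟩, fun h => ⟨⟨ζ, h.2⟩, h.1, rfl⟩⟩
      have hcut := length_cut hδP F hF p k ((δP_sect hP i x).trans hk)
        (coordAt (inChart_of_mem_range (Set.mem_range_self x))) (fun ζ _ h => hsupp ζ h) (hemb i x hk)
        (fun ζ hζ hd hnt => not_mem_primeOf (not_mem_sect_of_pts hP F hF i (hi i) ⟨ζ, hd, hnt⟩) hζ _) _ hS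
      rw [length_pullback_sect i F x, hcut, Finset.sum_image (fun a _ b _ e => Subtype.ext e), Finset.mul_sum]
      show famCycle hδP f hf hloc p = _
      rw [famCycle_apply, finsum_eq_sum_of_support_subset _ (s := hfinI.toFinset) ?_]
      · refine Finset.sum_congr rfl fun ζ hζ => ?_
        rw [Set.Finite.mem_toFinset, Set.mem_setOf_eq] at hζ
        have hd : δP p + 1 = δP ζ.1 := by rw [δP_sect hP, hk, ζ.2.1]
        rw [hdiv, dif_pos ⟨hζ, hd⟩, ordAt_t hδP (h0 ζ) (h1 ζ) hζ hd, summand, dif_pos hζ]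
        obtain rfl | rfl : i = 0 ∨ i = 1 := (show ∀ i : Fin (1 + 1), i = 0 ∨ i = 1 by decide) i
        · rw [dif_pos (Set.mem_range_self x), dif_neg (not_mem_both (Set.mem_range_self x))]
          simp [n]
        · rw [dif_neg fun h' => not_mem_both h' (Set.mem_range_self x), dif_pos (Set.mem_range_self x)]
          rw [show ![(1 : ℤ), -1] (1 : Fin (1 + 1)) = -1 from rfl]
          simp only [n]
          ring
      · intro ζ hζ
        rw [Set.Finite.coe_toFinset]
        by_contra h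
        exact hζ (show Cyc.divFun δP ζ.1 (f ζ) p = 0 by rw [hdiv, dif_neg fun h' => h h'.1])
    rw [hmain 0, hmain 1, show ![(1 : ℤ), -1] 0 = 1 from rfl, show ![(1 : ℤ), -1] (1 : Fin (1 + 1)) = -1 from rfl]
    push_cast
    ring
  -- the push forward is a family of divisors
  refine ⟨{ζ : Pts δP k F // δP ζ.1 = δ (tb ζ.1)}, fun ζ => tb ζ.1.1, fun ζ => Cyc.normGen tb ζ.1.1 (f ζ.1),
    fun ζ => ζ.2.symm.trans ζ.1.2.1, fun ζ => ?_, fun x => ?_, fun x => ?_⟩
  · have hfin := finite_residueFieldMap_of_delta_eq tb hP ζ.2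
    letI := (tb.residueFieldMap ζ.1.1).hom.toAlgebra
    haveI : Module.Finite (X.residueField (tb ζ.1.1)) ((CohB1.ProjSpaceOver 1 X).residueField ζ.1.1) := hfin
    exact finite_norm_ne_zero (hf ζ.1)
  · obtain ⟨U, hU, hxU, -⟩ := exists_isAffineOpen_mem_and_subset (x := x) (U := ⊤) trivial
    refine ⟨U, U.2, hxU, ((finite_of_locFin hloc
      (tb.isCompact_preimage hU.isCompact)).preimage Subtype.val_injective.injOn).subset ?_⟩
    rintro ζ ⟨y, hy, hyU⟩
    have hcl : IsClosed (tb '' closure {ζ.1.1}) := tb.isClosedMap _ isClosed_closure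
    obtain ⟨q, hq, rfl⟩ := closure_minimal
      (show ({tb ζ.1.1} : Set X) ⊆ tb '' closure {ζ.1.1} from
        Set.singleton_subset_iff.2 ⟨_, subset_closure rfl, rfl⟩) hcl hy
    exact ⟨q, hq, hyU⟩
  · show α x - β x = _
    rw [← hval x, map_famCycle_apply tb hδP hX.2.2 hP f hf hloc x]
    refine (finsum_congr fun ζ => ?_).trans
      (finsum_subtype_eq_finsum_cond (f := fun ζ : Pts δP k F =>
        Cyc.divFun δ (tb ζ.1) (Cyc.normGen tb ζ.1 (f ζ)) x) (fun ζ : Pts δP k F => δP ζ.1 = δ (tb ζ.1))).symm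
    rw [finsum_eq_if]

end GrothLib.CycP1
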