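import Mathlib.AlgebraicGeometry.Stalk
import Mathlib.AlgebraicGeometry.Pullbacks
import Mathlib.AlgebraicGeometry.Morphisms.Preimmersion

/-!
Base change of a point cut out by one function in an affine chart: the kernel at a stalk.
-/

set_option autoImplicit false
universe u

open CategoryTheory Limits AlgebraicGeometry IsLocalRing

namespace GrothLib.CycP1

/-- The quotient of a local ring by a non-unit is local. -/
theorem localQuot {R : Type u} [CommRing R] [IsLocalRing R] {x : R} (hx : x ∈ maximalIdeal R) :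
    Nontrivial (R ⧸ Ideal.span {x}) ∧ IsLocalRing (R ⧸ Ideal.span {x}) :=
  haveI hn : Nontrivial (R ⧸ Ideal.span {x}) :=
    Ideal.Quotient.nontrivial_iff.mpr fun e => (maximalIdeal.isMaximal R).ne_top
      (eq_top_iff.mpr (e.ge.trans ((Ideal.span_singleton_le_iff_mem _).2 hx)))
  ⟨hn, .of_surjective' _ Ideal.Quotient.mk_surjective⟩

variable {Q W Z : Scheme.{u}} {A R₀ : CommRingCat.{u}} (j : Spec A ⟶ Q)

/-- Over a chart, the local scheme at a point is given by a ring map. -/
theorem exists_chartHom [IsOpenImmersion j] (g : W ⟶ Q) (w : W) (hw : g w ∈ Set.range j) :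
    ∃ γ : A ⟶ W.presheaf.stalk w, Spec.map γ ≫ j = W.fromSpecStalk w ≫ g := by
  have hr : Set.range (W.fromSpecStalk w ≫ g) ⊆ Set.range j := by
    rintro _ ⟨y, rfl⟩
    have hy : (W.fromSpecStalk w y) ⤳ w := by
      have h : (W.fromSpecStalk w y) ∈ Set.range (W.fromSpecStalk w) := ⟨y, rfl⟩
      rw [Scheme.range_fromSpecStalk] at h
      exact h
    exact (hy.map g.continuous).mem_open j.opensRange.2 hw
  refine ⟨Spec.preimage (IsOpenImmersion.lift j (W.fromSpecStalk w ≫ g) hr), ?_⟩
  rw [Spec.map_preimage, IsOpenImmersion.lift_fac]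

theorem chartHom_unique [Mono j] {B : CommRingCat.{u}} {γ γ' : A ⟶ B}
    (h : Spec.map γ ≫ j = Spec.map γ' ≫ j) : γ = γ' :=
  Spec.map_injective ((cancel_mono j).1 h)

/-- A morphism from a local scheme sitting over the local scheme of a point sends the closed point to it. -/
theorem closedPoint_eq {R : CommRingCat.{u}} [IsLocalRing R] (h : Spec R ⟶ Z) (f : Z ⟶ W) {w : W}
    (q : W.presheaf.stalk w ⟶ R) [IsLocalHom q.hom] (hf : h ≫ f = Spec.map q ≫ W.fromSpecStalk w) :
    f (h (closedPoint R)) = w := by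
  have h1 := congrArg (fun k : Spec R ⟶ W => k (closedPoint R)) hf
  simp only [Scheme.Hom.comp_apply] at h1
  rw [h1, Spec_closedPoint, Scheme.fromSpecStalk_closedPoint]

/-- Such a morphism factors the local ring map through the stalk map. -/
theorem exists_factor {R : CommRingCat.{u}} [IsLocalRing R] (h : Spec R ⟶ Z) (f : Z ⟶ W) [IsPreimmersion f]
    (z : Z) (q : W.presheaf.stalk (f z) ⟶ R) [IsLocalHom q.hom]
    (hf : h ≫ f = Spec.map q ≫ W.fromSpecStalk (f z)) : ∃ χ : Z.presheaf.stalk z ⟶ R, f.stalkMap z ≫ χ = q := by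
  obtain rfl : h (closedPoint R) = z := f.isEmbedding.injective (closedPoint_eq h f q hf)
  refine ⟨Scheme.stalkClosedPointTo h, Spec.map_injective ((cancel_mono (W.fromSpecStalk _)).1 ?_)⟩
  rw [Spec.map_comp, Category.assoc, Scheme.SpecMap_stalkMap_fromSpecStalk, ← Category.assoc,
    Scheme.Spec_stalkClosedPointTo_fromSpecStalk, hf]

variable [Mono j] (e : A ⟶ R₀) {f : Z ⟶ W} {c : Z ⟶ Spec R₀} {g : W ⟶ Q}

/-- The closed local subscheme cut out by the function lies in the base change of the point. -/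
theorem exists_point (he : Function.Surjective e.hom) {a : A} (hker : RingHom.ker e.hom = Ideal.span {a})
    (hsq : IsPullback f c g (Spec.map e ≫ j)) (w : W) (γ : A ⟶ W.presheaf.stalk w)
    (hγ : Spec.map γ ≫ j = W.fromSpecStalk w ≫ g) :
    ∃ h : Spec (CommRingCat.of (W.presheaf.stalk w ⧸ Ideal.span {γ.hom a})) ⟶ Z,
      h ≫ f = Spec.map (CommRingCat.ofHom (Ideal.Quotient.mk _)) ≫ W.fromSpecStalk w := by
  let R := CommRingCat.of (W.presheaf.stalk w ⧸ Ideal.span {γ.hom a})
  let q : W.presheaf.stalk w ⟶ R := CommRingCat.ofHom (Ideal.Quotient.mk _)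
  have hk : RingHom.ker e.hom ≤ RingHom.ker (γ ≫ q).hom := by
    rw [hker, Ideal.span_singleton_le_iff_mem, RingHom.mem_ker]
    exact Ideal.Quotient.eq_zero_iff_mem.2 (Ideal.mem_span_singleton_self _)
  let δ : R₀ ⟶ R := CommRingCat.ofHom (RingHom.liftOfSurjective e.hom he ⟨(γ ≫ q).hom, hk⟩)
  have hδ : e ≫ δ = γ ≫ q := CommRingCat.hom_ext (RingHom.liftOfSurjective_comp e.hom he ⟨(γ ≫ q).hom, hk⟩)
  have hw : (Spec.map q ≫ W.fromSpecStalk w) ≫ g = Spec.map δ ≫ Spec.map e ≫ j := by
    rw [Category.assoc, ← hγ, ← Category.assoc, ← Category.assoc, ← Spec.map_comp, ← Spec.map_comp, hδ]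
  exact ⟨hsq.lift _ _ hw, hsq.lift_fst _ _ hw⟩

/-- The base change of the point contains every point at which the function is not invertible. -/
theorem mem_range_of_mem (he : Function.Surjective e.hom) {a : A} (hker : RingHom.ker e.hom = Ideal.span {a})
    (hsq : IsPullback f c g (Spec.map e ≫ j)) (w : W) (γ : A ⟶ W.presheaf.stalk w)
    (hγ : Spec.map γ ≫ j = W.fromSpecStalk w ≫ g) (hx : γ.hom a ∈ maximalIdeal (W.presheaf.stalk w)) :
    w ∈ Set.range f := by
  obtain ⟨h, hf⟩ := exists_point j e he hker hsq w γ hγ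
  obtain ⟨_, _⟩ := localQuot hx
  let q : W.presheaf.stalk w ⟶ CommRingCat.of (W.presheaf.stalk w ⧸ Ideal.span {γ.hom a}) :=
    CommRingCat.ofHom (Ideal.Quotient.mk _)
  haveI : IsLocalHom q.hom := .of_surjective q.hom fun b => Quotient.mk_surjective b
  exact ⟨_, closedPoint_eq h f q hf⟩

/-- The kernel at a stalk of the base change of the point. -/
theorem ker_stalkMap (he : Function.Surjective e.hom) {a : A} (hker : RingHom.ker e.hom = Ideal.span {a})
    [IsPreimmersion f] (hsq : IsPullback f c g (Spec.map e ≫ j)) (z : Z) (γ : A ⟶ W.presheaf.stalk (f z))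
    (hγ : Spec.map γ ≫ j = W.fromSpecStalk (f z) ≫ g) :
    RingHom.ker (f.stalkMap z).hom = Ideal.span {γ.hom a} := by
  have hle : Ideal.span {γ.hom a} ≤ RingHom.ker (f.stalkMap z).hom := by
    rw [Ideal.span_singleton_le_iff_mem, RingHom.mem_ker]
    have h1 : Spec.map (γ ≫ f.stalkMap z) ≫ j =
        Spec.map (e ≫ Spec.preimage (Z.fromSpecStalk z ≫ c)) ≫ j := by
      rw [Spec.map_comp, Category.assoc, hγ, ← Category.assoc, Scheme.SpecMap_stalkMap_fromSpecStalk,
        Spec.map_comp, Spec.map_preimage, Category.assoc, Category.assoc, hsq.w, Category.assoc]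
    have h2 := congrArg (fun φ => φ.hom a) (chartHom_unique j h1)
    simp only [CommRingCat.hom_comp, RingHom.comp_apply] at h2
    have h0 : e.hom a = 0 := by
      rw [← RingHom.mem_ker, hker]
      exact Ideal.mem_span_singleton_self a
    rw [h2, h0, map_zero]
  refine le_antisymm ?_ hle
  have hx : γ.hom a ∈ maximalIdeal (W.presheaf.stalk (f z)) := fun hu =>
    not_isUnit_zero ((RingHom.mem_ker.1 (hle (Ideal.mem_span_singleton_self _))) ▸ hu.map (f.stalkMap z).hom)
  obtain ⟨h, hf⟩ := exists_point j e he hker hsq (f z) γ hγ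
  obtain ⟨_, _⟩ := localQuot hx
  let q : W.presheaf.stalk (f z) ⟶ CommRingCat.of (W.presheaf.stalk (f z) ⧸ Ideal.span {γ.hom a}) :=
    CommRingCat.ofHom (Ideal.Quotient.mk _)
  haveI : IsLocalHom q.hom := .of_surjective q.hom fun b => Quotient.mk_surjective b
  obtain ⟨χ, hχ⟩ := exists_factor h f z q hf
  intro b hb
  have h5 := congrArg (fun φ => φ.hom b) hχ
  simp only [CommRingCat.hom_comp, RingHom.comp_apply] at h5
  rw [RingHom.mem_ker.1 hb, map_zero] at h5
  exact Ideal.Quotient.eq_zero_iff_mem.1 h5.symm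

end GrothLib.CycP1
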