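import Groth.Prelude.Def_P1
import Groth.Agent.Lib.ProjSp.Coords
import Groth.Agent.Lib.CycP1.Kernel

/-!
The two standard charts of the projective line and the points 0 and ∞.
-/

set_option autoImplicit false
universe u

open CategoryTheory Limits AlgebraicGeometry IsLocalRing GrothLib.ProjSpCoord

namespace GrothLib.CycP1

/-- The coordinate ring of a chart. -/
noncomputable abbrev A (i : Fin (1 + 1)) : CommRingCat.{u} :=
  CommRingCat.of (HomogeneousLocalization.Away P1.grading.{u} (P1.T i))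

/-- The chart. -/
noncomputable abbrev chart (i : Fin (1 + 1)) : Spec (A.{u} i) ⟶ CohB1.ProjSpace 1 P1.R0.{u} :=
  Proj.awayι P1.grading (P1.T i) (P1.X_mem i) one_pos

instance isOpenImmersion_chart (i : Fin (1 + 1)) : IsOpenImmersion (chart.{u} i) :=
  inferInstanceAs (IsOpenImmersion (Proj.awayι P1.grading.{u} (P1.T i) (P1.X_mem i) one_pos))

/-- Evaluation at the centre of the chart. -/
noncomputable abbrev ev (i : Fin (1 + 1)) : A.{u} i ⟶ CommRingCat.of P1.R0.{u} :=
  CommRingCat.ofHom (P1.evalAway i)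

/-- The coordinate of the chart. -/
noncomputable abbrev coord (i : Fin (1 + 1)) : A.{u} i := ratio (n := 1) i i.rev

theorem point_eq (i : Fin (1 + 1)) : P1.point.{u} i = Spec.map (ev i) ≫ chart i := rfl

theorem evalAway_ratio' (i k : Fin (1 + 1)) :
    P1.evalAway.{u} i (ratio i k) = (Pi.single i (1 : P1.R0.{u}) : Fin (1 + 1) → P1.R0) k := by
  have h := evalAway_ratio (n := 1) ((MvPolynomial.aeval (Pi.single i (1 : P1.R0.{u}) :
    Fin (1 + 1) → P1.R0)).toRingHom) i k (by simp)
  simpa [P1.evalAway, GrothLib.ProjPt.evalAway] using h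

theorem ev_surjective (i : Fin (1 + 1)) : Function.Surjective (ev.{u} i).hom := fun r =>
  ⟨fromRZ r, RingHom.congr_fun (ringHom_RZ_ext ((P1.evalAway i).comp fromRZ) (RingHom.id P1.R0.{u})) r⟩

theorem ker_ev (i : Fin (1 + 1)) : RingHom.ker (ev.{u} i).hom = Ideal.span {coord i} := by
  refine le_antisymm (fun z hz => ?_) ?_
  · rw [← Ideal.Quotient.eq_zero_iff_mem]
    have h : (fromRZ (S := A.{u} i ⧸ Ideal.span {coord i})).comp (P1.evalAway i) =
        Ideal.Quotient.mk (Ideal.span {coord i}) := by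
      refine awayHom_ext fun k => ?_
      rw [RingHom.comp_apply, evalAway_ratio']
      by_cases hk : k = i
      · subst hk
        rw [Pi.single_eq_same, map_one]
        exact (ratio_self_map _).symm
      · have hk' : k = i.rev := (show ∀ i k : Fin (1 + 1), ¬k = i → k = i.rev by decide) i k hk
        subst hk'
        rw [Pi.single_eq_of_ne hk, map_zero]
        exact (Ideal.Quotient.eq_zero_iff_mem.2 (Ideal.mem_span_singleton_self _)).symm
    rw [← h, RingHom.comp_apply, show P1.evalAway i z = 0 from hz, map_zero]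
  · rw [Ideal.span_singleton_le_iff_mem, RingHom.mem_ker]
    show P1.evalAway i (ratio i i.rev) = 0
    rw [evalAway_ratio', Pi.single_eq_of_ne ((show ∀ i : Fin (1 + 1), i.rev ≠ i by decide) i)]

theorem exists_mem_range_chart (q : CohB1.ProjSpace 1 P1.R0.{u}) : ∃ i, q ∈ Set.range (chart.{u} i) := by
  have h := Proj.iSup_basicOpen_eq_top' P1.grading.{u} (fun i : Fin (1 + 1) => P1.T i)
    (fun i => ⟨1, P1.X_mem i⟩) ?_
  · have hq : q ∈ (⊤ : (Proj P1.grading.{u}).Opens) := trivial
    rw [← h] at hq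
    obtain ⟨i, hi⟩ := TopologicalSpace.Opens.mem_iSup.1 hq
    rw [← Proj.opensRange_awayι P1.grading (P1.T i) (P1.X_mem i) one_pos] at hi
    exact ⟨i, hi⟩
  · refine top_le_iff.mp fun p _ => ?_
    induction p using MvPolynomial.induction_on with
    | C r => exact Subalgebra.algebraMap_mem _ (⟨MvPolynomial.C r, MvPolynomial.isHomogeneous_C _ r⟩ : P1.grading 0)
    | add p q hp hq => exact add_mem (hp trivial) (hq trivial)
    | mul_X p i hp => exact mul_mem (hp trivial) (Algebra.subset_adjoin ⟨i, rfl⟩)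

variable {B : CommRingCat.{u}}

/-- The ring map in coordinates. -/
noncomputable def toΓ {i : Fin (1 + 1)} (γ : A.{u} i ⟶ B) :
    HomogeneousLocalization.Away P1.grading.{u} (P1.T i) →+* Γ(Spec B, ⊤) :=
  (Scheme.ΓSpecIso B).inv.hom.comp γ.hom

theorem spec_eq_pt {i : Fin (1 + 1)} (γ : A.{u} i ⟶ B) :
    Spec.map γ ≫ chart i = GrothLib.ProjPt.pt P1.grading (P1.X_mem i) one_pos (toΓ γ) := by
  rw [GrothLib.ProjPt.pt, show CommRingCat.ofHom (toΓ γ) = γ ≫ (Scheme.ΓSpecIso B).inv from rfl,
    Spec.map_comp, ← SpecMap_ΓSpecIso_hom, Category.assoc, ← Spec.map_comp_assoc,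
    Iso.inv_hom_id, Spec.map_id, Category.id_comp]
  rfl

/-- The two coordinates are inverse to each other on the overlap. -/
theorem coord_mul_coord {i : Fin (1 + 1)} (γ : A.{u} i ⟶ B) (γ' : A.{u} i.rev ⟶ B)
    (h : Spec.map γ ≫ chart i = Spec.map γ' ≫ chart i.rev) : γ.hom (coord i) * γ'.hom (coord i.rev) = 1 := by
  have h1 := coords_change (n := 1) i i.rev i (Spec.map γ ≫ chart i) (toΓ γ) (toΓ γ') (spec_eq_pt γ)
    (h.trans (spec_eq_pt γ'))
  rw [ratio_self_map] at h1
  have h2 := congrArg (Scheme.ΓSpecIso B).hom h1.symm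
  simp only [toΓ, map_mul, map_one, RingHom.comp_apply] at h2
  simp only [← CommRingCat.comp_apply, Iso.inv_hom_id, CommRingCat.id_apply] at h2
  rw [show coord i.rev = ratio (n := 1) i.rev i by rw [coord, Fin.rev_rev]]
  exact h2

/-- The coordinate is invertible at the points landing in the other chart. -/
theorem mem_range_chart_rev {B : CommRingCat.{u}} [IsLocalRing B] {i : Fin (1 + 1)} (γ : A.{u} i ⟶ B)
    (hu : IsUnit (γ.hom (coord i))) :
    (Spec.map γ ≫ chart i) (closedPoint B) ∈ Set.range (chart.{u} i.rev) := by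
  have h := preimage_basicOpen (n := 1) i i.rev (Spec.map γ ≫ chart i) (toΓ γ) (spec_eq_pt γ)
  have h1 : closedPoint B ∈ (Spec.map γ ≫ chart i) ⁻¹ᵁ Proj.basicOpen P1.grading.{u} (P1.T i.rev) := by
    erw [h, Scheme.basicOpen_of_isUnit _ (hu.map (Scheme.ΓSpecIso B).inv.hom)]
    trivial
  have h2 : (Spec.map γ ≫ chart i) (closedPoint B) ∈ Proj.basicOpen P1.grading.{u} (P1.T i.rev) := h1
  rw [← Proj.opensRange_awayι P1.grading (P1.T i.rev) (P1.X_mem i.rev) one_pos] at h2
  exact h2

variable (X : Scheme.{u})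

/-- The projection to the projective line over the integers. -/
noncomputable abbrev pr : CohB1.ProjSpaceOver 1 X ⟶ CohB1.ProjSpace 1 P1.R0.{u} :=
  pullback.fst _ _

theorem point_toSpec (i : Fin (1 + 1)) :
    P1.point.{u} i ≫ CohB1.ProjSpace.toSpec 1 P1.R0.{u} = 𝟙 _ :=
  specULiftZIsTerminal.hom_ext _ _

theorem sect_toBase (i : Fin (1 + 1)) : P1.sect X i ≫ CohB1.ProjSpaceOver.toBase 1 X = 𝟙 X :=
  pullback.lift_snd _ _ _

theorem isPullback_sect (i : Fin (1 + 1)) :
    IsPullback (P1.sect X i) (specULiftZIsTerminal.from X) (pr X) (P1.point i) := by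
  have h1 : IsPullback (pr X) (CohB1.ProjSpaceOver.toBase 1 X) (CohB1.ProjSpace.toSpec 1 P1.R0.{u})
      (specULiftZIsTerminal.from X) := IsPullback.of_hasPullback _ _
  have h2 : IsPullback (specULiftZIsTerminal.from X) (P1.sect X i ≫ CohB1.ProjSpaceOver.toBase 1 X)
      (P1.point i ≫ CohB1.ProjSpace.toSpec 1 P1.R0.{u}) (specULiftZIsTerminal.from X) := by
    rw [sect_toBase, point_toSpec]
    exact IsPullback.of_vert_isIso ⟨by simp⟩
  exact (IsPullback.of_bot h2 (pullback.lift_fst _ _ _).symm h1).flip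

end GrothLib.CycP1
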