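import Groth.Agent.Lib.CycP1.Fibre
import Groth.Agent.Lib.CycPush.Linear
import Groth.Agent.S9684
import Groth.Agent.Lib.Chow.Prod

/-!
The fibres over 0 and ∞ differ by a principal divisor.
-/

set_option autoImplicit false
universe u

open CategoryTheory Limits AlgebraicGeometry IsLocalRing GrothLib.CycDiv GrothLib.CycPush

namespace GrothLib.CycP1

variable {X : Scheme.{u}}


instance isProper_tb : IsProper (CohB1.ProjSpaceOver.toBase.{u} 1 X) := GrothLib.Chow.isProper_toBase 1 X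

theorem isLocallyNoetherian_P [IsLocallyNoetherian X] : IsLocallyNoetherian (CohB1.ProjSpaceOver 1 X) :=
  LocallyOfFiniteType.isLocallyNoetherian (CohB1.ProjSpaceOver.toBase 1 X)

theorem tb_sect (i : Fin (1 + 1)) (x : X) : (CohB1.ProjSpaceOver.toBase 1 X) (P1.sect X i x) = x := by
  rw [← Scheme.Hom.comp_apply, sect_toBase]
  rfl

theorem residue_sect_surjective (i : Fin (1 + 1)) (x : X) :
    Function.Surjective ((CohB1.ProjSpaceOver.toBase 1 X).residueFieldMap (P1.sect X i x)).hom := by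
  have h : ∀ (k : X ⟶ X), k = 𝟙 X → Function.Surjective (k.residueFieldMap x).hom := by
    rintro k rfl
    exact (residueFieldMap_bijective (𝟙 X) x).2
  have h1 := h _ (sect_toBase X i)
  rw [Scheme.residueFieldMap_comp] at h1
  intro b
  obtain ⟨a, ha⟩ := h1 ((P1.sect X i).residueFieldMap x b)
  exact ⟨a, (P1.sect X i).residueFieldMap x |>.hom.injective ha⟩

variable {δ : X → ℤ} {δP : ↥(CohB1.ProjSpaceOver 1 X) → ℤ}

theorem δP_sect (hP : Cyc.DeltaCompat (CohB1.ProjSpaceOver.toBase 1 X) δP δ) (i : Fin (1 + 1)) (x : X) : δP (P1.sect X i x) = δ x := by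
  obtain ⟨n, hn, hnx⟩ := hP (P1.sect X i x)
  have h0 := resTrdeg_finite (CohB1.ProjSpaceOver.toBase 1 X)
    (RingHom.Finite.of_surjective _ (residue_sect_surjective i x))
  have : (n : Cardinal) = 0 := hn.symm.trans h0
  obtain rfl : n = 0 := by exact_mod_cast this
  rw [hnx, tb_sect]; simp

theorem mapCoeff_sect (hP : Cyc.DeltaCompat (CohB1.ProjSpaceOver.toBase 1 X) δP δ) (i : Fin (1 + 1)) (x : X) :
    AlgebraicCycle.mapCoeff (CohB1.ProjSpaceOver.toBase 1 X) δP δ (P1.sect X i x) = 1 := by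
  rw [AlgebraicCycle.mapCoeff, if_pos, residueDegree_eq_one _ (residue_sect_surjective i x)]
  rw [δP_sect hP i x]
  exact congrArg δ (tb_sect i x).symm

theorem isDimFun_δP (hX : Cyc.IsSetup X δ) (hP : Cyc.DeltaCompat (CohB1.ProjSpaceOver.toBase 1 X) δP δ) :
    Cyc.IsDimFun (CohB1.ProjSpaceOver 1 X) δP :=
  Groth.Agent.S9684.result (CohB1.ProjSpaceOver.toBase 1 X) δ hX δP hP

variable {k : ℤ} {W : Scheme.{u}} [IsIntegral W] (ι : W ⟶ CohB1.ProjSpaceOver 1 X) [IsClosedImmersion ι] {ξ : ↥(CohB1.ProjSpaceOver 1 X)}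

open Classical in
/-- The cycle of the fibre over a section. -/
theorem subschemeFun_fibre (hP : Cyc.DeltaCompat (CohB1.ProjSpaceOver.toBase 1 X) δP δ) (hξ : ι (genericPoint W) = ξ) (i : Fin (1 + 1))
    (x : X) :
    Cyc.subschemeFun δ k (pullback.snd ι (P1.sect X i)) x =
      if h : δ x = k ∧ ξ ⤳ P1.sect X i x then
        ((Ring.ord (Cyc.LocQuot _ ξ h.2)
          (Ideal.Quotient.mk _ (coordAt (inChart_of_mem_range ⟨x, rfl⟩)))).toNat : ℤ)
      else 0 := by
  have hfib : ∀ z : ↥(pullback ι (P1.sect X i)), ι (pullback.fst ι (P1.sect X i) z) =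
      P1.sect X i (pullback.snd ι (P1.sect X i) z) := fun z => by
    rw [← Scheme.Hom.comp_apply, pullback.condition, Scheme.Hom.comp_apply]
  by_cases hk : δ x = k
  swap
  · rw [Cyc.subschemeFun, if_neg hk, dif_neg fun h => hk h.1]
  rw [Cyc.subschemeFun, if_pos hk]
  by_cases hs : ξ ⤳ P1.sect X i x
  · rw [dif_pos ⟨hk, hs⟩]
    obtain ⟨w, hw⟩ : P1.sect X i x ∈ Set.range ι :=
      hs.mem_closed ι.isClosedEmbedding.isClosed_range ⟨_, hξ⟩
    obtain ⟨z, hz1, hz2⟩ := Scheme.Pullback.exists_preimage_pullback w x hw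
    rw [show {z' | pullback.snd ι (P1.sect X i) z' = x} = {z} from Set.ext fun z' =>
      ⟨fun h => (pullback.snd ι (P1.sect X i)).isEmbedding.injective (h.trans hz2.symm),
        fun h => by rw [Set.mem_singleton_iff.1 h]; exact hz2⟩, finsum_mem_singleton,
      length_fibre ι hξ z (by rw [hfib, hz2]) hs]
  · rw [dif_neg fun h => hs h.2]
    refine finsum_mem_eq_zero_of_forall_eq_zero fun z hz => absurd ?_ hs
    rw [← (hz : pullback.snd ι (P1.sect X i) z = x), ← hfib, ← hξ]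
    exact (genericPoint_specializes _).map ι.continuous

open Classical in
/-- The difference of the fibres is the push forward of the divisor of the coordinate. -/
theorem fibre_sub_fibre (hX : Cyc.IsSetup X δ) (hP : Cyc.DeltaCompat (CohB1.ProjSpaceOver.toBase 1 X) δP δ)
    (hξ : ι (genericPoint W) = ξ) (hd : δP ξ = k + 1) (h0 : ξ ∉ Set.range (P1.sect X 0))
    (h1 : ξ ∉ Set.range (P1.sect X 1)) (x : X) :
    Cyc.subschemeFun δ k (pullback.snd ι (P1.sect X 0)) x -
        Cyc.subschemeFun δ k (pullback.snd ι (P1.sect X 1)) x =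
      if δP ξ = δ ((CohB1.ProjSpaceOver.toBase 1 X) ξ) then Cyc.divFun δ ((CohB1.ProjSpaceOver.toBase 1 X) ξ) (Cyc.normGen (CohB1.ProjSpaceOver.toBase 1 X) ξ (t h1)) x else 0 := by
  haveI := hX.1
  haveI := isLocallyNoetherian_P (X := X)
  have hδP := isDimFun_δP hX hP
  rw [← sum_divFun_proper (CohB1.ProjSpaceOver.toBase 1 X) hδP hX.2.2 hP ξ (t_ne_zero h0 h1) x, subschemeFun_fibre ι hP hξ,
    subschemeFun_fibre ι hP hξ]
  set F : ↥(CohB1.ProjSpaceOver 1 X) → ℤ := fun p => Cyc.divFun δP ξ (t h1) p * (AlgebraicCycle.mapCoeff (CohB1.ProjSpaceOver.toBase 1 X) δP δ p : ℤ)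
  have hzero : ∀ p ∈ (CohB1.ProjSpaceOver.toBase 1 X) ⁻¹' {x}, p ∉ ({P1.sect X 0 x, P1.sect X 1 x} : Finset ↥(CohB1.ProjSpaceOver 1 X)) → F p = 0 := by
    intro p hp hp'
    simp only [Finset.mem_insert, Finset.mem_singleton, not_or] at hp'
    have hne : ∀ i : Fin (1 + 1), p ∈ Set.range (P1.sect X i) → p = P1.sect X i x := by
      rintro i ⟨y, rfl⟩
      rw [← (hp : (CohB1.ProjSpaceOver.toBase 1 X) (P1.sect X i y) = x), tb_sect]
    show Cyc.divFun δP ξ (t h1) p * _ = 0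
    rw [Cyc.divFun]
    split_ifs with h
    · rw [ordAt_t hδP h0 h1 h.1 h.2, dif_neg fun h' => hp'.1 (hne 0 h'), dif_neg fun h' => hp'.2 (hne 1 h')]
      simp
    · exact zero_mul _
  have hval : ∀ i : Fin (1 + 1), F (P1.sect X i x) =
      (![(1 : ℤ), -1] i) * if h : δ x = k ∧ ξ ⤳ P1.sect X i x then
        ((Ring.ord (Cyc.LocQuot _ ξ h.2)
          (Ideal.Quotient.mk _ (coordAt (inChart_of_mem_range ⟨x, rfl⟩)))).toNat : ℤ)
      else 0 := by
    intro i
    show Cyc.divFun δP ξ (t h1) _ * _ = _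
    rw [mapCoeff_sect hP i x, Nat.cast_one, mul_one, Cyc.divFun]
    by_cases h : δ x = k ∧ ξ ⤳ P1.sect X i x
    · rw [dif_pos ⟨h.2, by rw [δP_sect hP, hd, h.1]⟩, dif_pos h,
        ordAt_t hδP h0 h1 h.2 (by rw [δP_sect hP, hd, h.1])]
      obtain rfl | rfl : i = 0 ∨ i = 1 := (show ∀ i : Fin (1 + 1), i = 0 ∨ i = 1 by decide) i
      · rw [dif_pos (Set.mem_range_self x), dif_neg (not_mem_both (Set.mem_range_self x))]
        simp
      · rw [dif_neg fun h' => not_mem_both h' (Set.mem_range_self x), dif_pos (Set.mem_range_self x)]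
        simp
    · rw [dif_neg h, dif_neg, mul_zero]
      exact fun h' => h ⟨by have := h'.2; rw [δP_sect hP, hd] at this; omega, h'.1⟩
  rw [finsum_mem_eq_sum_of_inter_support_eq F (t := {P1.sect X 0 x, P1.sect X 1 x}) ?_,
    Finset.sum_pair fun e => not_mem_both ⟨x, e⟩ (Set.mem_range_self x), hval 0, hval 1]
  · rw [show ![(1 : ℤ), -1] 0 = 1 from rfl, show ![(1 : ℤ), -1] (1 : Fin (1 + 1)) = -1 from rfl]
    ring
  · ext p
    simp only [Set.mem_inter_iff, Function.mem_support, Set.mem_preimage, Finset.coe_insert,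
      Finset.coe_singleton]
    refine ⟨fun h => ⟨by_contra fun h' => h.2 (hzero p h.1 (by simpa using h')), h.2⟩, fun h => ⟨?_, h.2⟩⟩
    rcases h.1 with rfl | hp
    · exact tb_sect 0 x
    · rw [Set.mem_singleton_iff.1 hp]; exact tb_sect 1 x

theorem chartMap_coord (B : Type u) [CommRing B] (f : B) : P1.chartMap.{u} 0 B f (coord 0) = f := by
  have h := GrothLib.ProjSpCoord.evalAway_ratio (n := 1) (MvPolynomial.eval₂Hom
    ((Int.castRingHom B).comp ULift.ringEquiv.toRingHom)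
      (Function.update (fun _ => f) (0 : Fin (1 + 1)) 1)) 0 1 (by simp)
  show P1.chartMap 0 B f (GrothLib.ProjSpCoord.ratio 0 1) = f
  simpa [P1.chartMap, GrothLib.ProjPt.evalAway] using h

theorem finite_norm_ne_zero {A B : Type u} [Field A] [Field B] [Algebra A B] [Module.Finite A B] {b : B}
    (hb : b ≠ 0) : Algebra.norm A b ≠ 0 := Algebra.norm_ne_zero_iff.2 hb

theorem normGen_t_ne_zero {X : Scheme.{u}} {δ : X → ℤ} {δP : ↥(CohB1.ProjSpaceOver 1 X) → ℤ}
    (hP : Cyc.DeltaCompat (CohB1.ProjSpaceOver.toBase 1 X) δP δ) {ξ : ↥(CohB1.ProjSpaceOver 1 X)}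
    (h0 : ξ ∉ Set.range (P1.sect X 0)) (h1 : ξ ∉ Set.range (P1.sect X 1))
    (he : δP ξ = δ (CohB1.ProjSpaceOver.toBase 1 X ξ)) :
    Cyc.normGen (CohB1.ProjSpaceOver.toBase 1 X) ξ (t h1) ≠ 0 := by
  have hfin := finite_residueFieldMap_of_delta_eq (CohB1.ProjSpaceOver.toBase 1 X) hP he
  letI := ((CohB1.ProjSpaceOver.toBase 1 X).residueFieldMap ξ).hom.toAlgebra
  haveI : Module.Finite (X.residueField ((CohB1.ProjSpaceOver.toBase 1 X) ξ)) ((CohB1.ProjSpaceOver 1 X).residueField ξ) := hfin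
  exact finite_norm_ne_zero (t_ne_zero h0 h1)

/-- Properties of a field valued point with coordinate `f` over `ξ`. -/
theorem point_spec {ξ : X} {f : X.residueField ξ} (hf : f ≠ 0) (σ : Spec (X.residueField ξ) ⟶ CohB1.ProjSpaceOver 1 X)
    (γ : A.{u} 0 ⟶ X.residueField ξ) (hγ : γ.hom (coord 0) = f) (hσ1 : σ ≫ pr X = Spec.map γ ≫ chart 0)
    (hσ2 : σ ≫ (CohB1.ProjSpaceOver.toBase 1 X) = X.fromSpecResidueField ξ) {p : ↥(CohB1.ProjSpaceOver 1 X)}
    (hp : σ (closedPoint (X.residueField ξ)) = p) :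
    ∃ _ : p ∉ Set.range (P1.sect X 0), ∃ h1 : p ∉ Set.range (P1.sect X 1), (CohB1.ProjSpaceOver.toBase 1 X) p = ξ ∧
      Function.Surjective ((CohB1.ProjSpaceOver.toBase 1 X).residueFieldMap p).hom ∧
      ∀ x, Cyc.divFun δ ((CohB1.ProjSpaceOver.toBase 1 X) p) (Cyc.normGen (CohB1.ProjSpaceOver.toBase 1 X) p (t h1)) x = Cyc.divFun δ ξ f x := by
  obtain ⟨χ, hχ⟩ : ∃ χ : (CohB1.ProjSpaceOver 1 X).residueField p ⟶ X.residueField ξ,
      Spec.map χ ≫ (CohB1.ProjSpaceOver 1 X).fromSpecResidueField p = σ := by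
    subst hp
    exact ⟨_, Scheme.descResidueField_stalkClosedPointTo_fromSpecResidueField _ _ σ⟩
  have hσp := hp
  have hc : InChart 0 p := by
    refine ⟨Spec.map γ (closedPoint (X.residueField ξ)), ?_⟩
    rw [← hσp, ← Scheme.Hom.comp_apply, ← Scheme.Hom.comp_apply, hσ1]
  obtain ⟨γp, hγp⟩ := exists_chartHom (chart 0) (pr X) p hc
  have hq : γp ≫ (CohB1.ProjSpaceOver 1 X).residue p ≫ χ = γ := by
    refine chartHom_unique (chart 0) ?_
    rw [Spec.map_comp, Spec.map_comp, Category.assoc, Category.assoc, hγp, ← hσ1, ← hχ,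
      Scheme.fromSpecResidueField, Category.assoc, Category.assoc]
  have hcoord : χ.hom ((CohB1.ProjSpaceOver 1 X).residue p (coordAt hc)) = f := by
    rw [← hγ, ← hq, ← coordAt_eq hc γp hγp]
    rfl
  have h0 : p ∉ Set.range (P1.sect X 0) := fun h => hf (by
    rw [← hcoord]
    erw [(residue_eq_zero_iff _).2 ((mem_maximalIdeal_iff hc).2 h)]
    exact map_zero _)
  have h1 : p ∉ Set.range (P1.sect X 1) := fun h => by
    have h' := coordAt_mul (i := 0) hc (inChart_of_mem_range h)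
    exact (mem_maximalIdeal_iff (inChart_of_mem_range h)).2 h (IsUnit.of_mul_eq_one_right _ h')
  refine ⟨h0, h1, ?_⟩
  have he : (CohB1.ProjSpaceOver.toBase 1 X) p = ξ := by
    rw [← hσp, ← Scheme.Hom.comp_apply, hσ2]
    exact Scheme.fromSpecResidueField_apply _ _
  subst he
  refine ⟨rfl, ?_⟩
  have hid : (CohB1.ProjSpaceOver.toBase 1 X).residueFieldMap p ≫ χ = 𝟙 _ := by
    refine Spec.map_injective ((cancel_mono (X.fromSpecResidueField _)).1 ?_)
    rw [Spec.map_comp, Spec.map_id, Category.id_comp, Category.assoc,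
      Scheme.Hom.SpecMap_residueFieldMap_fromSpecResidueField, ← Category.assoc, hχ, hσ2]
  have hid' : ∀ a, χ.hom (((CohB1.ProjSpaceOver.toBase 1 X).residueFieldMap p).hom a) = a :=
    fun a => congrArg (fun φ => φ.hom a) hid
  have hs : Function.Surjective ((CohB1.ProjSpaceOver.toBase 1 X).residueFieldMap p).hom := fun b =>
    ⟨χ.hom b, χ.hom.injective (hid' _)⟩
  refine ⟨hs, fun x => ?_⟩
  have ht : t h1 = ((CohB1.ProjSpaceOver.toBase 1 X).residueFieldMap p).hom f :=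
    χ.hom.injective (by rw [hid']; exact hcoord)
  rw [ht]
  erw [normGen_residueFieldMap (CohB1.ProjSpaceOver.toBase 1 X) hs f]

/-- The point `[1 : f]` over `ξ`. -/
theorem exists_point_of_fun (ξ : X) {f : X.residueField ξ} (hf : f ≠ 0) :
    ∃ p : ↥(CohB1.ProjSpaceOver 1 X), ∃ _ : p ∉ Set.range (P1.sect X 0), ∃ h1 : p ∉ Set.range (P1.sect X 1), (CohB1.ProjSpaceOver.toBase 1 X) p = ξ ∧
      Function.Surjective ((CohB1.ProjSpaceOver.toBase 1 X).residueFieldMap p).hom ∧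
      ∀ x, Cyc.divFun δ ((CohB1.ProjSpaceOver.toBase 1 X) p) (Cyc.normGen (CohB1.ProjSpaceOver.toBase 1 X) p (t h1)) x = Cyc.divFun δ ξ f x := by
  let γ : A.{u} 0 ⟶ X.residueField ξ := CommRingCat.ofHom (P1.chartMap 0 (X.residueField ξ) f)
  exact ⟨_, point_spec hf (pullback.lift (Spec.map γ ≫ chart 0) (X.fromSpecResidueField ξ)
    (specULiftZIsTerminal.hom_ext _ _)) γ (chartMap_coord _ f) (pullback.lift_fst _ _ _)
    (pullback.lift_snd _ _ _) rfl⟩

end GrothLib.CycP1
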