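import Groth.Agent.Lib.CycP1.Chart
import Groth.Agent.Lib.CycDiv.Stalk
import Mathlib.AlgebraicGeometry.Morphisms.Separated
import Mathlib.AlgebraicGeometry.Morphisms.Proper
import Mathlib.AlgebraicGeometry.PullbackCarrier
import Mathlib.AlgebraicGeometry.ProjectiveSpectrum.Proper
import Mathlib.AlgebraicGeometry.FunctionField

/-!
The coordinate of the projective line as a rational function, and its zeros and poles.
-/

set_option autoImplicit false
universe u

open CategoryTheory Limits AlgebraicGeometry IsLocalRing GrothLib.CycDiv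

namespace GrothLib.CycP1

variable {X : Scheme.{u}} {i : Fin (1 + 1)}

local notation "P" => CohB1.ProjSpaceOver 1 X

/-- The point lies in the chart. -/
def InChart (i : Fin (1 + 1)) (p : P) : Prop := pr X p ∈ Set.range (chart.{u} i)

/-- The coordinate at a point of the chart. -/
noncomputable def coordAt {p : P} (h : InChart i p) : (CohB1.ProjSpaceOver 1 X).presheaf.stalk p :=
  (exists_chartHom (chart i) (pr X) p h).choose.hom (coord i)

theorem coordAt_eq {p : P} (h : InChart i p) (γ : A i ⟶ (CohB1.ProjSpaceOver 1 X).presheaf.stalk p)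
    (hγ : Spec.map γ ≫ chart i = (CohB1.ProjSpaceOver 1 X).fromSpecStalk p ≫ pr X) :
    γ.hom (coord i) = coordAt h :=
  congrArg (fun φ => φ.hom (coord i))
    (chartHom_unique (chart i) (hγ.trans (exists_chartHom (chart i) (pr X) p h).choose_spec.symm))

theorem exists_inChart (p : P) : ∃ i, InChart i p := exists_mem_range_chart (pr X p)

theorem inChart_of_specializes {ξ p : P} (h : InChart i p) (hs : ξ ⤳ p) : InChart i ξ :=
  (hs.map (pr X).continuous).mem_open (chart i).opensRange.2 h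

theorem coordAt_specializes {ξ p : P} (h : InChart i p) (hs : ξ ⤳ p) :
    ((CohB1.ProjSpaceOver 1 X).presheaf.stalkSpecializes hs).hom (coordAt h) =
      coordAt (inChart_of_specializes h hs) := by
  obtain ⟨γ, hγ⟩ := exists_chartHom (chart i) (pr X) p h
  rw [← coordAt_eq h γ hγ]
  refine coordAt_eq _ (γ ≫ (CohB1.ProjSpaceOver 1 X).presheaf.stalkSpecializes hs) ?_
  rw [Spec.map_comp, Category.assoc, hγ, ← Category.assoc, Scheme.SpecMap_stalkSpecializes_fromSpecStalk]

theorem coordAt_mul {p : P} (h : InChart i p) (h' : InChart i.rev p) : coordAt h * coordAt h' = 1 := by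
  obtain ⟨γ, hγ⟩ := exists_chartHom (chart i) (pr X) p h
  obtain ⟨γ', hγ'⟩ := exists_chartHom (chart i.rev) (pr X) p h'
  rw [← coordAt_eq h γ hγ, ← coordAt_eq h' γ' hγ']
  exact coord_mul_coord γ γ' (hγ.trans hγ'.symm)

instance : IsSeparated (CohB1.ProjSpaceOver.toBase.{u} 1 X) :=
  inferInstanceAs (IsSeparated (pullback.snd (Proj.toSpecZero _ ≫ _) _))

instance isClosedImmersion_sect : IsClosedImmersion (P1.sect X i) := by
  haveI : IsClosedImmersion (P1.sect X i ≫ CohB1.ProjSpaceOver.toBase 1 X) := by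
    rw [sect_toBase]; infer_instance
  exact IsClosedImmersion.of_comp (P1.sect X i) (CohB1.ProjSpaceOver.toBase 1 X)

theorem inChart_of_mem_range {p : P} (h : p ∈ Set.range (P1.sect X i)) : InChart i p := by
  obtain ⟨x, rfl⟩ := h
  refine ⟨(specULiftZIsTerminal.from X ≫ Spec.map (ev i)) x, ?_⟩
  have h1 := congrArg (fun k : X ⟶ _ => k x) (isPullback_sect X i).w
  simp only [point_eq, Scheme.Hom.comp_apply] at h1 ⊢
  exact h1.symm

theorem mem_maximalIdeal_iff {p : P} (h : InChart i p) :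
    coordAt h ∈ maximalIdeal _ ↔ p ∈ Set.range (P1.sect X i) := by
  have hsq := isPullback_sect X i
  rw [point_eq] at hsq
  obtain ⟨γ, hγ⟩ := exists_chartHom (chart i) (pr X) p h
  rw [← coordAt_eq h γ hγ]
  refine ⟨mem_range_of_mem (chart i) (ev i) (ev_surjective i) (ker_ev i) hsq p γ hγ, ?_⟩
  rintro ⟨x, rfl⟩
  have hk := ker_stalkMap (chart i) (ev i) (ev_surjective i) (ker_ev i) hsq x γ hγ
  refine le_maximalIdeal ?_ (hk ▸ Ideal.mem_span_singleton_self (γ.hom (coord i)))
  exact RingHom.ker_ne_top _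

theorem inChart_rev_of_not_mem {p : P} (h : InChart i p) (hp : p ∉ Set.range (P1.sect X i)) :
    InChart i.rev p := by
  obtain ⟨γ, hγ⟩ := exists_chartHom (chart i) (pr X) p h
  have hu : IsUnit (γ.hom (coord i)) := by
    rw [coordAt_eq h γ hγ]
    by_contra hu
    exact hp ((mem_maximalIdeal_iff h).1 hu)
  have h1 := mem_range_chart_rev γ hu
  rw [hγ, Scheme.Hom.comp_apply, Scheme.fromSpecStalk_closedPoint] at h1
  exact h1

theorem inChart_zero {ξ : P} (h1 : ξ ∉ Set.range (P1.sect X 1)) : InChart 0 ξ := by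
  obtain ⟨i, hi⟩ := exists_inChart ξ
  fin_cases i
  · exact hi
  · exact inChart_rev_of_not_mem (i := 1) hi h1

/-- The coordinate as a rational function on the closure of a point. -/
noncomputable def t {ξ : P} (h1 : ξ ∉ Set.range (P1.sect X 1)) : (CohB1.ProjSpaceOver 1 X).residueField ξ :=
  (CohB1.ProjSpaceOver 1 X).residue ξ (coordAt (inChart_zero h1))

theorem t_ne_zero {ξ : P} (h0 : ξ ∉ Set.range (P1.sect X 0)) (h1 : ξ ∉ Set.range (P1.sect X 1)) :
    t h1 ≠ 0 := fun h => h0 ((mem_maximalIdeal_iff _).1 ((residue_eq_zero_iff _).1 h))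

theorem specMap_coordAt_zero {ξ p : P} (h1 : ξ ∉ Set.range (P1.sect X 1)) (hs : ξ ⤳ p) (hp : InChart 0 p) :
    Cyc.specMap p ξ hs (coordAt hp) = t h1 := by
  show (CohB1.ProjSpaceOver 1 X).residue ξ (((CohB1.ProjSpaceOver 1 X).presheaf.stalkSpecializes hs).hom _) = _
  erw [coordAt_specializes hp hs]
  rfl

theorem specMap_coordAt_one {ξ p : P} (h1 : ξ ∉ Set.range (P1.sect X 1)) (hs : ξ ⤳ p) (hp : InChart 1 p) :
    t h1 * Cyc.specMap p ξ hs (coordAt hp) = 1 := by
  show _ * (CohB1.ProjSpaceOver 1 X).residue ξ (((CohB1.ProjSpaceOver 1 X).presheaf.stalkSpecializes hs).hom _) = _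
  erw [coordAt_specializes hp hs]
  rw [t, ← map_mul, coordAt_mul (i := 0), map_one]

theorem not_mem_both {p : P} (h0 : p ∈ Set.range (P1.sect X 0)) : p ∉ Set.range (P1.sect X 1) := fun h1 => by
  have h := coordAt_mul (i := 0) (inChart_of_mem_range h0) (inChart_of_mem_range h1)
  exact (mem_maximalIdeal_iff (inChart_of_mem_range h0)).2 h0 (IsUnit.of_mul_eq_one _ h)

variable [IsLocallyNoetherian (CohB1.ProjSpaceOver 1 X)]

theorem not_mem_primeOf {ξ p : P} (hi : ξ ∉ Set.range (P1.sect X i)) (hs : ξ ⤳ p) (hp : InChart i p) :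
    coordAt hp ∉ primeOf hs := fun h => by
  rw [mem_primeOf_iff, coordAt_specializes hp hs] at h
  exact hi ((mem_maximalIdeal_iff _).1 h)

open Classical in
/-- The order of the coordinate at a point of codimension one in the closure. -/
theorem ordAt_t {δ : P → ℤ} (hδ : Cyc.IsDimFun (CohB1.ProjSpaceOver 1 X) δ) {ξ p : P}
    (h0 : ξ ∉ Set.range (P1.sect X 0)) (h1 : ξ ∉ Set.range (P1.sect X 1)) (hs : ξ ⤳ p) (hd : δ p + 1 = δ ξ) :
    Cyc.ordAt p ξ hs (t h1) =
      (if h : p ∈ Set.range (P1.sect X 0) then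
        ((Ring.ord (Cyc.LocQuot p ξ hs) (Ideal.Quotient.mk _ (coordAt (inChart_of_mem_range h)))).toNat : ℤ)
        else 0) -
      (if h : p ∈ Set.range (P1.sect X 1) then
        ((Ring.ord (Cyc.LocQuot p ξ hs) (Ideal.Quotient.mk _ (coordAt (inChart_of_mem_range h)))).toNat : ℤ)
        else 0) := by
  have hone : (1 : (CohB1.ProjSpaceOver 1 X).presheaf.stalk p) ∉ primeOf hs := (primeOf hs).one_notMem
  have hz : ((Ring.ord (Cyc.LocQuot p ξ hs) (Ideal.Quotient.mk _ 1)).toNat : ℤ) = 0 := by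
    rw [map_one, Ring.ord_one]; rfl
  by_cases hp0 : p ∈ Set.range (P1.sect X 0)
  · rw [dif_pos hp0, dif_neg (not_mem_both hp0), sub_zero,
      ordAt_eq_sub hδ hs hd (a := coordAt (inChart_of_mem_range hp0)) (not_mem_primeOf h0 hs _) hone
        (by rw [map_one, mul_one, specMap_coordAt_zero h1 hs]), hz, sub_zero]
  by_cases hp1 : p ∈ Set.range (P1.sect X 1)
  · rw [dif_neg hp0, dif_pos hp1,
      ordAt_eq_sub hδ hs hd (b := coordAt (inChart_of_mem_range hp1)) hone (not_mem_primeOf h1 hs _)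
        (by rw [map_one, specMap_coordAt_one h1 hs]), hz]
  rw [dif_neg hp0, dif_neg hp1, sub_zero]
  have hc : InChart 0 p := inChart_zero hp1
  refine ordAt_eq_zero_of_isUnit hδ hs hd (a := coordAt hc) ?_ (specMap_coordAt_zero h1 hs hc).symm
  by_contra hu
  exact hp0 ((mem_maximalIdeal_iff hc).1 hu)

omit [IsLocallyNoetherian (CohB1.ProjSpaceOver 1 X)] in
/-- The local ring of an integral closed subscheme. -/
theorem ker_stalkMap_eq_primeOf {W : Scheme.{u}} [IsIntegral W] (ι : W ⟶ P) [IsClosedImmersion ι] {ξ : P}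
    (hξ : ι (genericPoint W) = ξ) (w : W) (hs : ξ ⤳ ι w) : RingHom.ker (ι.stalkMap w).hom = primeOf hs := by
  subst hξ
  ext a
  rw [mem_primeOf_iff, RingHom.mem_ker, mem_maximalIdeal, mem_nonunits_iff,
    ← isUnit_map_iff (ι.stalkMap (genericPoint W)).hom]
  have h := Scheme.Hom.stalkSpecializes_stalkMap_apply ι (genericPoint W) w (genericPoint_specializes w) a
  erw [h]
  refine Iff.trans ?_ isUnit_iff_ne_zero.not.symm
  rw [not_not]
  exact ⟨fun e => by erw [e, map_zero],
    fun e => IsFractionRing.injective (W.presheaf.stalk w) W.functionField (e.trans (map_zero _).symm)⟩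

omit [IsLocallyNoetherian (CohB1.ProjSpaceOver 1 X)] in
/-- Lengths along a pair of surjections. -/
theorem length_eq_ord {R S T : Type u} [CommRing R] [CommRing S] [CommRing T] {I : Ideal R} (φ : R →+* S)
    (ψ : S →+* T) (hφ : Function.Surjective φ) (hψ : Function.Surjective ψ) (hI : RingHom.ker φ = I) (x : R)
    (hk : RingHom.ker ψ = Ideal.span {φ x}) :
    Module.length T T = Ring.ord (R ⧸ I) (Ideal.Quotient.mk I x) := by
  subst hI
  let χ : R ⧸ RingHom.ker φ →+* T := ψ.comp (RingHom.kerLift φ)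
  have hχ : Function.Surjective χ := fun b => by
    obtain ⟨c, rfl⟩ := hψ b
    obtain ⟨a, rfl⟩ := hφ c
    exact ⟨Ideal.Quotient.mk _ a, rfl⟩
  have hker : RingHom.ker χ = Ideal.span {Ideal.Quotient.mk (RingHom.ker φ) x} := by
    refine le_antisymm (fun b hb => ?_) ((Ideal.span_singleton_le_iff_mem _).2 ?_)
    · obtain ⟨a, rfl⟩ := Ideal.Quotient.mk_surjective b
      have hb' : φ a ∈ Ideal.span {φ x} := hk ▸ hb
      obtain ⟨c, hc⟩ := Ideal.mem_span_singleton'.1 hb'
      obtain ⟨c, rfl⟩ := hφ c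
      refine Ideal.mem_span_singleton'.2 ⟨Ideal.Quotient.mk _ c, ?_⟩
      rw [← map_mul, Ideal.Quotient.eq, RingHom.mem_ker, map_sub, map_mul, hc, sub_self]
    · exact RingHom.mem_ker.2 (RingHom.mem_ker.1 (hk.ge (Ideal.mem_span_singleton_self _)))
  letI := χ.toAlgebra
  rw [← Module.length_eq_of_surjective (S := R ⧸ RingHom.ker φ) hχ, Ring.ord]
  exact ((Submodule.quotEquivOfEq _ _ hker.symm).trans
    (LinearMap.quotKerEquivOfSurjective (Algebra.linearMap (R ⧸ RingHom.ker φ) T) hχ)).length_eq.symm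

omit [IsLocallyNoetherian (CohB1.ProjSpaceOver 1 X)] in
/-- The length of the fibre over a section. -/
theorem length_fibre {W : Scheme.{u}} [IsIntegral W] (ι : W ⟶ P) [IsClosedImmersion ι] {ξ : P}
    (hξ : ι (genericPoint W) = ξ) (z : ↥(pullback ι (P1.sect X i))) {p : P}
    (hp : ι (pullback.fst ι (P1.sect X i) z) = p) (hs : ξ ⤳ p) (hc : InChart i p) :
    Module.length ((pullback ι (P1.sect X i)).presheaf.stalk z) ((pullback ι (P1.sect X i)).presheaf.stalk z) =
      Ring.ord (Cyc.LocQuot p ξ hs) (Ideal.Quotient.mk _ (coordAt hc)) := by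
  subst hp
  obtain ⟨γ, hγ⟩ := exists_chartHom (chart i) (pr X) _ hc
  rw [← coordAt_eq hc γ hγ]
  have hsq : IsPullback (pullback.fst ι (P1.sect X i))
      (pullback.snd ι (P1.sect X i) ≫ specULiftZIsTerminal.from X) (ι ≫ pr X) (Spec.map (ev i) ≫ chart i) := by
    rw [← point_eq]
    exact ((IsPullback.of_hasPullback ι (P1.sect X i)).flip.paste_horiz (isPullback_sect X i).flip).flip
  have hγ' : Spec.map (γ ≫ ι.stalkMap (pullback.fst ι (P1.sect X i) z)) ≫ chart i =
      W.fromSpecStalk (pullback.fst ι (P1.sect X i) z) ≫ ι ≫ pr X := by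
    rw [Spec.map_comp, Category.assoc, hγ, ← Category.assoc, Scheme.SpecMap_stalkMap_fromSpecStalk,
      Category.assoc]
  have hk := ker_stalkMap (chart i) (ev i) (ev_surjective i) (ker_ev i) hsq z _ hγ'
  exact length_eq_ord _ _ (ι.stalkMap_surjective _) ((pullback.fst ι (P1.sect X i)).stalkMap_surjective z)
    (ker_stalkMap_eq_primeOf ι hξ _ hs) _ hk

end GrothLib.CycP1
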