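import Groth.Agent.Lib.CycP1.Sheaf
import Groth.Agent.Lib.K0Sub.Dev

/-!
The fibres of a closed subscheme as fibres of its structure module.
-/

set_option autoImplicit false
universe u

open CategoryTheory Limits AlgebraicGeometry IsLocalRing
open scoped Pointwise

namespace GrothLib.CycP1

variable {X : Scheme.{u}} {Z : Scheme.{u}} (ι : Z ⟶ CohB1.ProjSpaceOver 1 X) [IsClosedImmersion ι]

theorem bijective_push_unit (z : Z) :
    ∃ e : ((Coh.push ι).obj (Coh.structureModule Z)).presheaf.stalk (ι z) →+ Z.presheaf.stalk z,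
      Function.Bijective e ∧ ∀ (r : (CohB1.ProjSpaceOver 1 X).presheaf.stalk (ι z))
        (m : ((Coh.push ι).obj (Coh.structureModule Z)).presheaf.stalk (ι z)),
        e (r • m) = (ι.stalkMap z).hom r * e m := by
  have hb := GrothLib.QCoh.pushStalkHom_bijective ι z (Coh.structureModule Z) ι.isClosedEmbedding.isInducing
  let φ := (GrothLib.QCoh.pushStalkHom ι z (Coh.structureModule Z)).hom
  let u := (GrothLib.HomSh.unitStalk z).symm
  refine ⟨(u : (Coh.structureModule Z).presheaf.stalk z →+ Z.presheaf.stalk z).comp φ.toAddMonoidHom,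
    u.bijective.comp hb, fun r m => ?_⟩
  exact (congrArg u (φ.map_smul r m)).trans (u.map_smul ((ι.stalkMap z).hom r) (φ m))

theorem isAssociatedPrime_of_push (z : Z) [IsLocallyNoetherian (CohB1.ProjSpaceOver 1 X)]
    (h : IsAssociatedPrime (maximalIdeal ((CohB1.ProjSpaceOver 1 X).presheaf.stalk (ι z)))
      (((Coh.push ι).obj (Coh.structureModule Z)).presheaf.stalk (ι z))) :
    IsAssociatedPrime (maximalIdeal (Z.presheaf.stalk z)) (Z.presheaf.stalk z) := by
  haveI : IsNoetherianRing (Z.presheaf.stalk z) :=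
    isNoetherianRing_of_surjective _ _ _ (ι.stalkMap_surjective z)
  obtain ⟨e, he, hsmul⟩ := bijective_push_unit ι z
  obtain ⟨-, y, hy⟩ := isAssociatedPrime_iff.1 h
  refine isAssociatedPrime_iff.2 ⟨inferInstance, e y, ?_⟩
  ext c
  obtain ⟨r, rfl⟩ := ι.stalkMap_surjective z c
  rw [Submodule.mem_colon_singleton, Submodule.mem_bot, smul_eq_mul]
  erw [← hsmul]
  rw [map_eq_zero_iff e he.1, mem_maximalIdeal, mem_nonunits_iff]
  refine (isUnit_map_iff (ι.stalkMap z).hom r).not.trans ?_
  rw [← mem_nonunits_iff, ← mem_maximalIdeal, hy, Submodule.mem_colon_singleton, Submodule.mem_bot]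

theorem ker_fst_stalkMap (i : Fin (1 + 1)) (z : ↥(pullback ι (P1.sect X i)))
    (hc : InChart i (ι (pullback.fst ι (P1.sect X i) z))) :
    RingHom.ker ((pullback.fst ι (P1.sect X i)).stalkMap z).hom =
      Ideal.span {(ι.stalkMap (pullback.fst ι (P1.sect X i) z)).hom (coordAt hc)} := by
  obtain ⟨γ, hγ⟩ := exists_chartHom (chart i) (pr X) _ hc
  rw [← coordAt_eq hc γ hγ]
  have hsq : IsPullback (pullback.fst ι (P1.sect X i))
      (pullback.snd ι (P1.sect X i) ≫ specULiftZIsTerminal.from X) (ι ≫ pr X) (Spec.map (ev i) ≫ chart i) := by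
    rw [← point_eq]
    exact ((IsPullback.of_hasPullback ι (P1.sect X i)).flip.paste_horiz (isPullback_sect X i).flip).flip
  have hγ' : Spec.map (γ ≫ ι.stalkMap (pullback.fst ι (P1.sect X i) z)) ≫ chart i =
      Z.fromSpecStalk (pullback.fst ι (P1.sect X i) z) ≫ ι ≫ pr X := by
    rw [Spec.map_comp, Category.assoc, hγ, ← Category.assoc, Scheme.SpecMap_stalkMap_fromSpecStalk,
      Category.assoc]
  have hk := ker_stalkMap (chart i) (ev i) (ev_surjective i) (ker_ev i) hsq z _ hγ'
  rw [CommRingCat.hom_comp, RingHom.comp_apply] at hk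
  exact hk

theorem length_cut_push (i : Fin (1 + 1)) (z : ↥(pullback ι (P1.sect X i)))
    {p : ↥(CohB1.ProjSpaceOver 1 X)} (hp : ι (pullback.fst ι (P1.sect X i) z) = p) (hc : InChart i p) :
    Module.length ((CohB1.ProjSpaceOver 1 X).presheaf.stalk p)
        (((Coh.push ι).obj (Coh.structureModule Z)).presheaf.stalk p ⧸
          coordAt hc • (⊤ : Submodule ((CohB1.ProjSpaceOver 1 X).presheaf.stalk p)
            (((Coh.push ι).obj (Coh.structureModule Z)).presheaf.stalk p))) =
      Module.length ((pullback ι (P1.sect X i)).presheaf.stalk z) ((pullback ι (P1.sect X i)).presheaf.stalk z) := by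
  subst hp
  obtain ⟨e, he, hsmul⟩ := bijective_push_unit ι (pullback.fst ι (P1.sect X i) z)
  set φ := (ι.stalkMap (pullback.fst ι (P1.sect X i) z)).hom
  let ψ := ((pullback.fst ι (P1.sect X i)).stalkMap z).hom
  have hψ : Function.Surjective ψ := (pullback.fst ι (P1.sect X i)).stalkMap_surjective z
  letI := (ψ.comp φ).toAlgebra
  rw [← Module.length_eq_of_surjective (S := (CohB1.ProjSpaceOver 1 X).presheaf.stalk _)
    (M := (pullback ι (P1.sect X i)).presheaf.stalk z) (hψ.comp (ι.stalkMap_surjective _))]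
  let χ : ((Coh.push ι).obj (Coh.structureModule Z)).presheaf.stalk (ι (pullback.fst ι (P1.sect X i) z))
      →ₗ[(CohB1.ProjSpaceOver 1 X).presheaf.stalk (ι (pullback.fst ι (P1.sect X i) z))]
        (pullback ι (P1.sect X i)).presheaf.stalk z :=
    { toFun := fun m => ψ (e m)
      map_add' := fun a b => by rw [map_add, map_add]
      map_smul' := fun r m => by rw [hsmul, map_mul]; rfl }
  have hχ : Function.Surjective χ := hψ.comp he.2
  have hker : LinearMap.ker χ = coordAt hc • (⊤ : Submodule _ _) := by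
    ext m
    rw [LinearMap.mem_ker, Submodule.mem_smul_pointwise_iff_exists]
    show ψ (e m) = 0 ↔ _
    rw [← RingHom.mem_ker, ker_fst_stalkMap ι i z hc, Ideal.mem_span_singleton']
    refine ⟨fun ⟨c, hc'⟩ => ?_, fun ⟨n, _, hn⟩ => ⟨e n, ?_⟩⟩
    · obtain ⟨n, rfl⟩ := he.2 c
      exact ⟨n, Submodule.mem_top, he.1 (by rw [hsmul, mul_comm, hc'])⟩
    · rw [← hn, hsmul, mul_comm]
  exact ((Submodule.quotEquivOfEq _ _ hker.symm).trans (χ.quotKerEquivOfSurjective hχ)).length_eq

open Classical in
theorem sheafFun_pullback_push (δ : X → ℤ) (k : ℤ) (i : Fin (1 + 1)) (x : X) :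
    Cyc.sheafFun δ k ((Scheme.Modules.pullback (P1.sect X i)).obj ((Coh.push ι).obj (Coh.structureModule Z))) x =
      Cyc.subschemeFun δ k (pullback.snd ι (P1.sect X i)) x := by
  rw [Cyc.sheafFun, Cyc.subschemeFun]
  by_cases hk : δ x = k
  swap
  · rw [if_neg hk, if_neg hk]
  rw [if_pos hk, if_pos hk, length_pullback_sect]
  have hfib : ∀ z : ↥(pullback ι (P1.sect X i)), ι (pullback.fst ι (P1.sect X i) z) =
      P1.sect X i (pullback.snd ι (P1.sect X i) z) := fun z => by
    rw [← Scheme.Hom.comp_apply, pullback.condition, Scheme.Hom.comp_apply]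
  by_cases hr : P1.sect X i x ∈ Set.range ι
  · obtain ⟨w, hw⟩ := hr
    obtain ⟨z, -, hz⟩ := Scheme.Pullback.exists_preimage_pullback w x hw
    rw [show {z' | pullback.snd ι (P1.sect X i) z' = x} = {z} from Set.ext fun z' =>
      ⟨fun h => (pullback.snd ι (P1.sect X i)).isEmbedding.injective (h.trans hz.symm),
        fun h => by rw [Set.mem_singleton_iff.1 h]; exact hz⟩, finsum_mem_singleton,
      length_cut_push ι i z (by rw [hfib, hz])]
  · haveI := GrothLib.CycBasic.subsingleton_push_stalk ι (Coh.structureModule Z) hr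
    rw [Module.length_eq_zero]
    refine (finsum_mem_eq_zero_of_forall_eq_zero fun z hz => absurd ⟨pullback.fst ι (P1.sect X i) z, ?_⟩ hr).symm
    rw [hfib, (hz : pullback.snd ι (P1.sect X i) z = x)]

end GrothLib.CycP1
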